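import Groth.Agent.CohDev.FlatPullEquiv.NilIso
import Groth.Agent.CohTwo.AdicUnit
import Groth.Prelude.Def_CohB1
import Mathlib.AlgebraicGeometry.Morphisms.FiniteType

/-!
A flat morphism inducing an isomorphism modulo `I` induces isomorphisms modulo every power of `I`.
-/

set_option autoImplicit false

universe u

open CategoryTheory CategoryTheory.Limits AlgebraicGeometry Opposite TopologicalSpace

namespace Groth.CohDev.FlatPullEquiv

variable {A : Type u} [CommRing A] (I : Ideal A)

theorem isClosedImmersion_specQuot (n : ℕ) : IsClosedImmersion (CohB1.specQuot I n) :=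
  IsClosedImmersion.spec_of_surjective _ Ideal.Quotient.mk_surjective

/-- `Spec (A/I) ⟶ Spec (A/I^(n+1))`. -/
noncomputable def specQuotFrom (n : ℕ) :
    Spec (CommRingCat.of (A ⧸ I ^ (0 + 1))) ⟶ Spec (CommRingCat.of (A ⧸ I ^ (n + 1))) :=
  Spec.map (CommRingCat.ofHom (Ideal.Quotient.factor (Ideal.pow_le_pow_right (by omega))))

theorem specQuotFrom_specQuot (n : ℕ) : specQuotFrom I n ≫ CohB1.specQuot I n = CohB1.specQuot I 0 := by
  simp only [specQuotFrom, CohB1.specQuot, ← Spec.map_comp, ← CommRingCat.ofHom_comp]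
  rfl

theorem isClosedImmersion_specQuotFrom (n : ℕ) : IsClosedImmersion (specQuotFrom I n) :=
  IsClosedImmersion.spec_of_surjective _ (Ideal.Quotient.factor_surjective (Ideal.pow_le_pow_right (by omega)))

theorem surjective_specQuotFrom (n : ℕ) : Surjective (specQuotFrom I n) := by
  refine ⟨?_⟩
  let φ := Ideal.Quotient.factor (S := I ^ (n + 1)) (T := I ^ (0 + 1)) (Ideal.pow_le_pow_right (by omega))
  change Function.Surjective (PrimeSpectrum.comap φ)
  rw [← Set.range_eq_univ, range_comap_of_surjective _ φ (Ideal.Quotient.factor_surjective (Ideal.pow_le_pow_right (by omega))),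
    PrimeSpectrum.zeroLocus_eq_univ_iff]
  intro x hx
  obtain ⟨a, rfl⟩ := Ideal.Quotient.mk_surjective x
  have ha : a ∈ I := by simpa [φ, Ideal.Quotient.eq_zero_iff_mem] using hx
  exact ⟨n + 1, by rw [← map_pow, Ideal.zero_eq_bot, Ideal.mem_bot, Ideal.Quotient.eq_zero_iff_mem]; exact Ideal.pow_mem_pow ha _⟩

variable {X X' : Scheme.{u}} [X.Over (Spec (CommRingCat.of A))] [X'.Over (Spec (CommRingCat.of A))]
  [IsLocallyNoetherian X] (f : X' ⟶ X) [Flat f]
  (hf : f ≫ (X ↘ Spec (CommRingCat.of A)) = X' ↘ Spec (CommRingCat.of A))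
  (hZ : IsIso (pullback.map (X' ↘ Spec (CommRingCat.of A)) (CohB1.specQuot I 0)
      (X ↘ Spec (CommRingCat.of A)) (CohB1.specQuot I 0) f (𝟙 _) (𝟙 _)
      ((Category.comp_id _).trans hf.symm) ((Category.comp_id _).trans (Category.id_comp _).symm)))

include hf hZ in
/-- The `n`-th thickening of `X'` is that of `X`. -/
theorem isPullback_comp (n : ℕ) :
    IsPullback (pullback.fst (X' ↘ Spec (CommRingCat.of A)) (CohB1.specQuot I n) ≫ f)
      (pullback.snd _ _) (X ↘ Spec (CommRingCat.of A)) (CohB1.specQuot I n) := by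
  let pX := X ↘ Spec (CommRingCat.of A)
  let pX' := X' ↘ Spec (CommRingCat.of A)
  let q := CohB1.specQuot I n
  let g : pullback pX' q ⟶ pullback pX q := pullback.map _ _ _ _ f (𝟙 _) (𝟙 _)
    ((Category.comp_id _).trans hf.symm) ((Category.comp_id _).trans (Category.id_comp _).symm)
  have hg1 : g ≫ pullback.fst pX q = pullback.fst pX' q ≫ f := pullback.lift_fst _ _ _
  have hg2 : g ≫ pullback.snd pX q = pullback.snd pX' q :=
    (pullback.lift_snd _ _ _).trans (Category.comp_id _)
  have hsq : IsPullback (pullback.fst pX' q) g f (pullback.fst pX q) := by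
    refine IsPullback.of_bot ?_ hg1.symm (IsPullback.of_hasPullback pX q)
    rw [hg2, hf]
    exact IsPullback.of_hasPullback _ _
  have : Flat g := MorphismProperty.of_isPullback (P := @Flat) hsq ‹Flat f›
  have := isClosedImmersion_specQuot I n
  have : IsLocallyNoetherian (pullback pX q) := LocallyOfFiniteType.isLocallyNoetherian (pullback.fst pX q)
  let t : pullback pX (CohB1.specQuot I 0) ⟶ pullback pX q :=
    pullback.map _ _ _ _ (𝟙 _) (specQuotFrom I n) (𝟙 _) (by simp)
      (by rw [Category.comp_id, specQuotFrom_specQuot])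
  have ht : IsPullback t (pullback.snd pX (CohB1.specQuot I 0)) (pullback.snd pX q) (specQuotFrom I n) := by
    refine IsPullback.of_right ?_ (pullback.lift_snd _ _ _) (IsPullback.of_hasPullback pX q)
    rw [show t ≫ pullback.fst pX q = pullback.fst _ _ from
      (pullback.lift_fst _ _ _).trans (Category.comp_id _), specQuotFrom_specQuot]
    exact IsPullback.of_hasPullback _ _
  have : IsClosedImmersion t :=
    MorphismProperty.of_isPullback (P := @IsClosedImmersion) ht.flip (isClosedImmersion_specQuotFrom I n)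
  have : Surjective t :=
    MorphismProperty.of_isPullback (P := @Surjective) ht.flip (surjective_specQuotFrom I n)
  let t' : pullback pX' (CohB1.specQuot I 0) ⟶ pullback pX' q :=
    pullback.map _ _ _ _ (𝟙 _) (specQuotFrom I n) (𝟙 _) (by simp)
      (by rw [Category.comp_id, specQuotFrom_specQuot])
  let g₀ := pullback.map pX' (CohB1.specQuot I 0) pX (CohB1.specQuot I 0) f (𝟙 _) (𝟙 _)
    ((Category.comp_id _).trans hf.symm) ((Category.comp_id _).trans (Category.id_comp _).symm)
  have hsq₀ : IsPullback t' g₀ g t := by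
    refine IsPullback.of_bot ?_ ?_ ht
    · rw [show g₀ ≫ pullback.snd pX _ = pullback.snd pX' _ from
        (pullback.lift_snd _ _ _).trans (Category.comp_id _), hg2]
      refine IsPullback.of_right ?_ (pullback.lift_snd _ _ _) (IsPullback.of_hasPullback pX' q)
      rw [show t' ≫ pullback.fst pX' q = pullback.fst _ _ from
        (pullback.lift_fst _ _ _).trans (Category.comp_id _), specQuotFrom_specQuot]
      exact IsPullback.of_hasPullback _ _
    · have a1 : t' ≫ pullback.fst pX' q = pullback.fst _ _ := (pullback.lift_fst _ _ _).trans (Category.comp_id _)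
      have a2 : t' ≫ pullback.snd pX' q = pullback.snd _ _ ≫ specQuotFrom I n := pullback.lift_snd _ _ _
      have b1 : t ≫ pullback.fst pX q = pullback.fst _ _ := (pullback.lift_fst _ _ _).trans (Category.comp_id _)
      have b2 : t ≫ pullback.snd pX q = pullback.snd _ _ ≫ specQuotFrom I n := pullback.lift_snd _ _ _
      have c1 : g₀ ≫ pullback.fst pX _ = pullback.fst pX' _ ≫ f := pullback.lift_fst _ _ _
      have c2 : g₀ ≫ pullback.snd pX _ = pullback.snd pX' _ :=
        (pullback.lift_snd _ _ _).trans (Category.comp_id _)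
      refine pullback.hom_ext ?_ ?_
      · rw [Category.assoc, Category.assoc, hg1, b1, ← Category.assoc, a1, c1]
      · rw [Category.assoc, Category.assoc, hg2, b2, a2, ← Category.assoc, c2]
  have h0 : IsIso (pullback.snd g t) := by
    rw [← hsq₀.isoPullback_inv_snd]
    exact @IsIso.comp_isIso _ _ _ _ _ _ _ inferInstance hZ
  have : IsIso g := isIso_of_flat_of_isIso_thickening g t h0
  exact IsPullback.of_iso_pullback ⟨by rw [Category.assoc, hf]; exact pullback.condition⟩ (asIso g) hg1 hg2

/-- The ideal of a thickening. -/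
theorem ker_ideal_le {K : Ideal A} {W Z : Scheme.{u}} [W.Over (Spec (CommRingCat.of A))] {fst : Z ⟶ W}
    {snd : Z ⟶ Spec (CommRingCat.of (A ⧸ K))}
    (h : IsPullback fst snd (W ↘ Spec (CommRingCat.of A)) (Spec.map (CommRingCat.ofHom (Ideal.Quotient.mk K))))
    (V : W.affineOpens) : fst.ker.ideal V ≤ K.map (CohC3.baseApp W V.1) := by
  haveI : IsClosedImmersion (Spec.map (CommRingCat.ofHom (Ideal.Quotient.mk K))) :=
    IsClosedImmersion.spec_of_surjective _ Ideal.Quotient.mk_surjective
  rw [AdicLinTop.Thickenings.ker_eq_comap_of_isPullback h,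
    Divisors.ideal_comap_affine _ _ ⟨⊤, isAffineOpen_top _⟩ V le_top]
  refine Ideal.map_le_iff_le_comap.2 fun x hx => ?_
  rw [Scheme.Hom.ker_apply, RingHom.mem_ker] at hx
  obtain ⟨a, rfl⟩ : ∃ y, (Scheme.ΓSpecIso (CommRingCat.of A)).inv y = x :=
    ⟨_, Iso.hom_inv_id_apply _ x⟩
  have ha : a ∈ K := by
    have h1 := congr($(Scheme.ΓSpecIso_inv_naturality (CommRingCat.ofHom (Ideal.Quotient.mk K))) a)
    have h2 := congrArg (Scheme.ΓSpecIso (CommRingCat.of (A ⧸ K))).hom (h1.trans hx)
    exact Ideal.Quotient.eq_zero_iff_mem.1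
      ((Iso.inv_hom_id_apply (Scheme.ΓSpecIso (CommRingCat.of (A ⧸ K))) _).symm.trans (h2.trans (map_zero _)))
  exact Ideal.mem_map_of_mem (CohC3.baseApp W V.1) ha

end Groth.CohDev.FlatPullEquiv
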