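import Groth.Agent.CohTwo.AdicUnit
import Groth.Agent.CohC3.PushPull
import Groth.Agent.SpectralTopology.ConsModLocus

/-!
Pullback of modules killed by `K` along a morphism which is an isomorphism modulo `K`.
-/

set_option autoImplicit false

universe u

open CategoryTheory CategoryTheory.Limits AlgebraicGeometry Opposite TopologicalSpace

namespace Groth.CohDev.FlatPullEquiv

theorem bijective_map_of_iso {C D : Type*} [Category C] [Category D] {F G : C ⥤ D} (e : F ≅ G) {M N : C}
    (h : Function.Bijective (G.map : (M ⟶ N) → _)) : Function.Bijective (F.map : (M ⟶ N) → _) := by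
  have : (F.map : (M ⟶ N) → _) = (Iso.homCongr (e.app M).symm (e.app N).symm) ∘ G.map := by
    funext φ
    change F.map φ = e.hom.app M ≫ G.map φ ≫ e.inv.app N
    rw [← Category.assoc, ← e.hom.naturality, Category.assoc, Iso.hom_inv_id_app, Category.comp_id]
  rw [this]
  exact (Equiv.bijective _).comp h

variable {A : Type u} [CommRing A] {X Y Z : Scheme.{u}} [X.Over (Spec (CommRingCat.of A))]
  [Y.Over (Spec (CommRingCat.of A))]

theorem killedBy_pullback (f : Y ⟶ X) (hf : f ≫ (X ↘ Spec (CommRingCat.of A)) = Y ↘ Spec (CommRingCat.of A))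
    {K : Ideal A} {M : X.Modules} (h : Formal.KilledBy K M) :
    Formal.KilledBy K ((Scheme.Modules.pullback f).obj M) := fun a ha => by
  rw [← CohC3.map_smulMod_of_adj (Scheme.Modules.pullbackPushforwardAdjunction f) hf, h a ha,
    Functor.map_zero]

/-- Restriction to the thickening is bijective on maps into modules killed by the ideal. -/
theorem bijective_pullback_closed (i : Z ⟶ X) [IsClosedImmersion i] {K : Ideal A}
    (hker : ∀ U : X.affineOpens, i.ker.ideal U ≤ K.map (CohC3.baseApp X U.1))
    (M N : X.Modules) [N.IsQuasicoherent] (hN : Formal.KilledBy K N) :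
    Function.Bijective ((Scheme.Modules.pullback i).map : (M ⟶ N) → _) := by
  let adj := Scheme.Modules.pullbackPushforwardAdjunction i
  letI : Z.Over (Spec (CommRingCat.of A)) := ⟨i ≫ X ↘ Spec (CommRingCat.of A)⟩
  haveI := CohTwo.isIso_unit_of_killedBy i hker N hN
  refine ((adj.homEquiv M ((Scheme.Modules.pullback i).obj N)).comp_bijective _).1 ?_
  have : ⇑(adj.homEquiv M _) ∘ ((Scheme.Modules.pullback i).map : (M ⟶ N) → _) =
      fun φ => φ ≫ adj.unit.app N := funext fun φ => by
    rw [Function.comp_apply, Adjunction.homEquiv_unit]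
    exact (adj.unit.naturality φ).symm
  rw [this]
  exact ⟨fun a b h => (cancel_mono (adj.unit.app N)).1 h,
    fun ψ => ⟨ψ ≫ inv (adj.unit.app N), by simp⟩⟩

variable [Z.Over (Spec (CommRingCat.of A))] (f : Y ⟶ X)
  (hf : f ≫ (X ↘ Spec (CommRingCat.of A)) = Y ↘ Spec (CommRingCat.of A)) (i : Z ⟶ Y)
  (hi : i ≫ (Y ↘ Spec (CommRingCat.of A)) = Z ↘ Spec (CommRingCat.of A))
  [IsClosedImmersion i] [IsClosedImmersion (i ≫ f)] {K : Ideal A}
  (hK : ∀ a ∈ K, Coh.toGlobal (Z ↘ Spec (CommRingCat.of A)) a = 0)
  (hker : ∀ U : Y.affineOpens, i.ker.ideal U ≤ K.map (CohC3.baseApp Y U.1))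
  (hker' : ∀ U : X.affineOpens, (i ≫ f).ker.ideal U ≤ K.map (CohC3.baseApp X U.1))

include hf hker hker' in
/-- Pullback is bijective on maps into modules killed by the ideal. -/
theorem bijective_pullback (M N : X.Modules) [N.IsQuasicoherent] (hN : Formal.KilledBy K N) :
    Function.Bijective ((Scheme.Modules.pullback f).map : (M ⟶ N) → _) := by
  haveI := QCohMod.isQCoh_pullback_obj f N
  have h1 := bijective_pullback_closed i hker ((Scheme.Modules.pullback f).obj M) _
    (killedBy_pullback f hf hN)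
  have h2 : Function.Bijective ((Scheme.Modules.pullback f ⋙ Scheme.Modules.pullback i).map : (M ⟶ N) → _) :=
    bijective_map_of_iso (Scheme.Modules.pullbackComp i f) (bijective_pullback_closed (i ≫ f) hker' M N hN)
  exact h1.of_comp_iff' _ |>.1 h2

include hf hi hK hker in
/-- Modules killed by the ideal descend. -/
theorem exists_preimage [IsLocallyNoetherian X] (N : Y.Modules) (hN : Coh.IsCoh N)
    (hKN : Formal.KilledBy K N) :
    ∃ M : X.Modules, Coh.IsCoh M ∧ Formal.KilledBy K M ∧
      Nonempty ((Scheme.Modules.pullback f).obj M ≅ N) := by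
  let P := (Scheme.Modules.pullback i).obj N
  have hP : Coh.IsCoh P := SpectralTopology.ConsModLocus.isCoh_pullback_obj i hN
  haveI := hN.1
  haveI := hP.1
  have hj : (i ≫ f) ≫ (X ↘ Spec (CommRingCat.of A)) = Z ↘ Spec (CommRingCat.of A) := by
    rw [Category.assoc, hf, hi]
  let M := (Scheme.Modules.pushforward (i ≫ f)).obj P
  have hM : Coh.IsCoh M := CohC3.isCoh_pushforward (f := i ≫ f) hj hP
  have hKM : Formal.KilledBy K M :=
    CohTwo.killedBy_pushforward (i ≫ f) hj (CohTwo.killedBy_of_toGlobal P hK)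
  refine ⟨M, hM, hKM, ?_⟩
  haveI := hM.1
  haveI := QCohMod.isQCoh_pullback_obj f M
  haveI := QCohMod.isIso_counit_closedImmersion (i ≫ f) P
  let e : (Scheme.Modules.pullback i).obj ((Scheme.Modules.pullback f).obj M) ≅ (Scheme.Modules.pullback i).obj N :=
    (Scheme.Modules.pullbackComp i f).app M ≪≫
      asIso ((Scheme.Modules.pullbackPushforwardAdjunction (i ≫ f)).counit.app P)
  obtain ⟨φ, hφ⟩ := (bijective_pullback_closed i hker _ N hKN).2 e.hom
  obtain ⟨ψ, hψ⟩ := (bijective_pullback_closed i hker N _ (killedBy_pullback f hf hKM)).2 e.inv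
  refine ⟨⟨φ, ψ, ?_, ?_⟩⟩
  · refine (bijective_pullback_closed i hker _ _ (killedBy_pullback f hf hKM)).1 ?_
    rw [Functor.map_comp, CategoryTheory.Functor.map_id, hφ, hψ, Iso.hom_inv_id]
  · refine (bijective_pullback_closed i hker _ _ hKN).1 ?_
    rw [Functor.map_comp, CategoryTheory.Functor.map_id, hφ, hψ, Iso.inv_hom_id]

end Groth.CohDev.FlatPullEquiv
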