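import Groth.Agent.CohDev.FlatPullEquiv.Geom
import Groth.Agent.CohDev.FlatPullEquiv.Levels

/-!
Pullback of coherent formal modules along a flat morphism which is an isomorphism modulo `I`.
-/

set_option autoImplicit false

universe u

open CategoryTheory CategoryTheory.Limits AlgebraicGeometry Opposite TopologicalSpace

namespace Groth.CohDev.FlatPullEquiv

variable {A : Type u} [CommRing A] {I : Ideal A} {X X' : Scheme.{u}} [X.Over (Spec (CommRingCat.of A))]
  [X'.Over (Spec (CommRingCat.of A))] {f : X' ⟶ X}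

/-- The conclusions at each level. -/
structure LevelData (I : Ideal A) (f : X' ⟶ X) : Prop where
  map_bijective : ∀ (n : ℕ) (M N : X.Modules), N.IsQuasicoherent → Formal.KilledBy (I ^ (n + 1)) N →
    Function.Bijective ((Scheme.Modules.pullback f).map : (M ⟶ N) → _)
  preimage : ∀ (n : ℕ) (N : X'.Modules), Coh.IsCoh N → Formal.KilledBy (I ^ (n + 1)) N →
    ∃ M : X.Modules, Coh.IsCoh M ∧ Formal.KilledBy (I ^ (n + 1)) M ∧
      Nonempty ((Scheme.Modules.pullback f).obj M ≅ N)

theorem levelData [IsLocallyNoetherian X] (f : X' ⟶ X) [Flat f]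
    (hf : f ≫ (X ↘ Spec (CommRingCat.of A)) = X' ↘ Spec (CommRingCat.of A))
    (hZ : IsIso (pullback.map (X' ↘ Spec (CommRingCat.of A)) (CohB1.specQuot I 0)
      (X ↘ Spec (CommRingCat.of A)) (CohB1.specQuot I 0) f (𝟙 _) (𝟙 _)
      ((Category.comp_id _).trans hf.symm) ((Category.comp_id _).trans (Category.id_comp _).symm))) :
    LevelData I f := by
  refine ⟨fun n M N hN hK => ?_, fun n N hN hK => ?_⟩ <;>
  · let pX' := X' ↘ Spec (CommRingCat.of A)
    let i : pullback pX' (CohB1.specQuot I n) ⟶ X' := pullback.fst _ _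
    letI : (pullback pX' (CohB1.specQuot I n)).Over (Spec (CommRingCat.of A)) :=
      ⟨pullback.snd _ _ ≫ CohB1.specQuot I n⟩
    have hi : i ≫ pX' = pullback.snd _ _ ≫ CohB1.specQuot I n := pullback.condition
    have hsq := isPullback_comp I f hf hZ n
    have := isClosedImmersion_specQuot I n
    haveI : IsClosedImmersion (i ≫ f) :=
      MorphismProperty.of_isPullback (P := @IsClosedImmersion) hsq.flip this
    have hker := ker_ideal_le (K := I ^ (n + 1)) (IsPullback.of_hasPullback pX' (CohB1.specQuot I n))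
    have hker' := ker_ideal_le (K := I ^ (n + 1)) hsq
    have hK0 : ∀ a ∈ I ^ (n + 1), Coh.toGlobal (pullback.snd pX' (CohB1.specQuot I n) ≫ CohB1.specQuot I n) a = 0 :=
      fun a ha => CohTwo.toGlobal_eq_zero_of_factor (K := I ^ (n + 1)) rfl ha
    first
    | exact bijective_pullback f hf i hker hker' M N hK
    | exact exists_preimage f hf i hi hK0 hker N hN hK

namespace LevelData

variable (D : LevelData I f)
include D

theorem whiskerRight_bijective (G₁ G₂ : ℕᵒᵖ ⥤ X.Modules) (h₂ : Formal.IsCohFormal I G₂) :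
    Function.Bijective (fun φ : G₁ ⟶ G₂ => Functor.whiskerRight φ (Scheme.Modules.pullback f)) := by
  refine ⟨fun φ ψ h => NatTrans.ext (funext fun ⟨n⟩ => ?_), fun ψ => ?_⟩
  · exact (D.map_bijective n _ _ (h₂.1 n).1 (h₂.2.1 n)).1 (congr_app h (op n))
  · choose φ hφ using fun n : ℕ =>
      (D.map_bijective n (G₁.obj (op n)) (G₂.obj (op n)) (h₂.1 n).1 (h₂.2.1 n)).2 (ψ.app (op n))
    refine ⟨{ app := fun n => φ n.unop, naturality := ?_ }, NatTrans.ext (funext fun ⟨n⟩ => hφ n)⟩
    rintro ⟨m⟩ ⟨n⟩ g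
    refine (D.map_bijective n _ _ (h₂.1 n).1 (h₂.2.1 n)).1 ?_
    rw [Functor.map_comp, Functor.map_comp, hφ, hφ]
    exact ψ.naturality g

theorem exists_system (hf : f ≫ (X ↘ Spec (CommRingCat.of A)) = X' ↘ Spec (CommRingCat.of A))
    (G' : ℕᵒᵖ ⥤ X'.Modules) (hG' : Formal.IsCohFormal I G') :
    ∃ G : ℕᵒᵖ ⥤ X.Modules, Formal.IsCohFormal I G ∧
      Nonempty (G ⋙ Scheme.Modules.pullback f ≅ G') := by
  choose M hM hK e using fun n => D.preimage n (G'.obj (op n)) (hG'.1 n) (hG'.2.1 n)
  let e' := fun n => Classical.choice (e n)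
  choose t ht using fun n => (D.map_bijective n (M (n + 1)) (M n) (hM n).1 (hK n)).2
    ((e' (n + 1)).hom ≫ CohC3.sysMap G' (Nat.le_succ n) ≫ (e' n).inv)
  let G : ℕᵒᵖ ⥤ X.Modules := Functor.ofOpSequence (X := M) t
  have hGmap : ∀ n, G.map (homOfLE (Nat.le_succ n)).op = t n := Functor.ofOpSequence_map_homOfLE_succ t
  have hS := CohC3.isSys_of_isCohFormal hG'
  have hquot : ∀ n, CohC3.IsQuot (I ^ (n + 1)) (t n) := fun n => by
    haveI := (hM (n + 1)).1
    haveI := (hM n).1
    let π := cokernel.π (Formal.smulFamily (I ^ (n + 1)) (M (n + 1)))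
    have hπ : CohC3.IsQuot (I ^ (n + 1)) π := CohC3.isQuot_cokernel _ _
    haveI := CohC3.isQCoh_of_isQuot hπ
    have h1 : CohC3.IsQuot (I ^ (n + 1)) ((Scheme.Modules.pullback f).map (t n)) := by
      rw [ht n]
      exact ((hS.isQuot_succ n).comp_iso (e' n).inv).iso_comp (e' (n + 1)).hom
    obtain ⟨u, hu⟩ := hπ.desc (t n) (CohC3.le_annHom_of_killedBy (hK n) _)
    have h2 := hπ.map_adj (Scheme.Modules.pullbackPushforwardAdjunction f) hf
    obtain ⟨v, hv⟩ := h1.desc ((Scheme.Modules.pullback f).map π) h2.le_ann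
    obtain ⟨w, hw⟩ := (D.map_bijective n (M n) _ inferInstance hπ.killedBy).2 v
    haveI : IsIso u := by
      refine ⟨w, ?_, ?_⟩
      · refine (D.map_bijective n _ _ inferInstance hπ.killedBy).1 ?_
        refine h2.hom_ext ?_
        rw [Functor.map_comp, hw, ← Category.assoc, ← Functor.map_comp, hu, hv,
          CategoryTheory.Functor.map_id, Category.comp_id]
      · refine (D.map_bijective n _ _ inferInstance (hK n)).1 ?_
        refine h1.hom_ext ?_
        rw [Functor.map_comp, hw, ← Category.assoc, hv, ← Functor.map_comp, hu,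
          CategoryTheory.Functor.map_id, Category.comp_id]
    rw [← hu]
    exact hπ.comp_iso u
  refine ⟨G, ⟨hM, hK, fun n => ?_⟩, ⟨?_⟩⟩
  · have h := hquot n
    rw [← hGmap n] at h
    exact h.isIso_desc
  · let τ : G ⋙ Scheme.Modules.pullback f ⟶ G' := NatTrans.ofOpSequence (fun n => (e' n).hom) fun n => by
      change (Scheme.Modules.pullback f).map (G.map (homOfLE (Nat.le_succ n)).op) ≫ (e' n).hom = _
      rw [hGmap]
      refine (congrArg (fun z => z ≫ (e' n).hom) (ht n)).trans ?_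
      exact (Category.assoc _ _ _).trans (congrArg _ (((Category.assoc _ _ _).trans (congrArg _ (Iso.inv_hom_id _))).trans (Category.comp_id _)))
    haveI : ∀ n : ℕᵒᵖ, IsIso (τ.app n) := fun ⟨n⟩ => (e' n).isIso_hom
    haveI : IsIso τ := NatIso.isIso_of_isIso_app τ
    exact asIso τ

end LevelData

end Groth.CohDev.FlatPullEquiv
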