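import Groth.Agent.AdicLinTop.Thickenings
import Groth.Agent.Divisors.IdealComap
import Mathlib.AlgebraicGeometry.Morphisms.ClosedImmersion
import Mathlib.AlgebraicGeometry.Morphisms.Flat
import Mathlib.AlgebraicGeometry.Noetherian

/-!
A flat morphism to a locally Noetherian scheme which is an isomorphism over a thickening is an
isomorphism.
-/

set_option autoImplicit false

universe u

open CategoryTheory CategoryTheory.Limits AlgebraicGeometry TopologicalSpace

namespace Groth.CohDev.FlatPullEquiv

theorem surjective_of_nilpotent {A B : Type u} [CommRing A] [CommRing B] (φ : A →+* B) (I : Ideal A)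
    (hnil : IsNilpotent I) (h : ∀ b, ∃ a, φ a - b ∈ I.map φ) : Function.Surjective φ := by
  obtain ⟨N, hN⟩ := hnil
  suffices ∀ k b, ∃ a, φ a - b ∈ (I ^ k).map φ by
    intro b
    obtain ⟨a, ha⟩ := this N b
    rw [hN, Ideal.zero_eq_bot, Ideal.map_bot, Ideal.mem_bot, sub_eq_zero] at ha
    exact ⟨a, ha⟩
  intro k
  induction k with
  | zero => exact fun b => ⟨0, by rw [pow_zero, Ideal.one_eq_top, Ideal.map_top]; exact Submodule.mem_top⟩
  | succ k ih =>
    have step : ∀ y ∈ (I ^ k).map φ, ∃ a, φ a - y ∈ (I ^ (k + 1)).map φ := by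
      intro y hy
      induction hy using Submodule.span_induction with
      | mem z hz => obtain ⟨a, -, rfl⟩ := hz; exact ⟨a, by simp⟩
      | zero => exact ⟨0, by simp⟩
      | add y z _ _ hy hz =>
        obtain ⟨a, ha⟩ := hy
        obtain ⟨c, hc⟩ := hz
        exact ⟨a + c, by rw [map_add, add_sub_add_comm]; exact Ideal.add_mem _ ha hc⟩
      | smul d z hzmem hz =>
        obtain ⟨a, ha⟩ := hz
        obtain ⟨c, hc⟩ := h d
        refine ⟨c * a, ?_⟩
        have h1 : φ (c * a) - d • z = φ c * (φ a - z) + (φ c - d) * z := by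
          rw [map_mul, smul_eq_mul]; ring
        rw [h1]
        refine Ideal.add_mem _ (Ideal.mul_mem_left _ _ ha) ?_
        rw [pow_succ', Ideal.map_mul]
        exact Ideal.mul_mem_mul hc hzmem
    intro b
    obtain ⟨a, ha⟩ := ih b
    obtain ⟨c, hc⟩ := step _ ha
    refine ⟨a - c, ?_⟩
    rw [map_sub, show φ a - φ c - b = -(φ c - (φ a - b)) by ring]
    exact neg_mem hc

theorem isIso_of_flat_of_isIso_thickening {X S S' : Scheme.{u}} [IsLocallyNoetherian S] (f : X ⟶ S)
    (i : S' ⟶ S) [IsClosedImmersion i] [Surjective i] [Flat f] (h : IsIso (pullback.snd f i)) :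
    IsIso f := by
  have hcomp : pullback.fst f i ≫ f = pullback.snd f i ≫ i := pullback.condition
  have hfst : Surjective (pullback.fst f i) := MorphismProperty.pullback_fst f i ‹_›
  have : IsClosedImmersion (pullback.fst f i) := MorphismProperty.pullback_fst f i ‹_›
  have hh : IsHomeomorph f.base := by
    have hc : ∀ {Y Z : Scheme.{u}} (g : Y ⟶ Z) [IsClosedImmersion g] [Surjective g], IsHomeomorph g.base :=
      fun g _ _ => isHomeomorph_iff_isEmbedding_surjective.2 ⟨g.isClosedEmbedding.isEmbedding, g.surjective⟩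
    have h1 := hc (pullback.fst f i)
    have h2 : IsHomeomorph (pullback.snd f i ≫ i).base := hc _
    rw [← hcomp] at h2
    let e1 := h1.homeomorph _
    have : f.base = ((pullback.fst f i ≫ f).base : _ → S) ∘ e1.symm := funext fun x =>
      congrArg f.base (e1.apply_symm_apply x).symm
    rw [this]
    exact h2.comp e1.symm.isHomeomorph
  have : IsAffineHom f := isAffineHom_of_isInducing f hh.isInducing
    (by rw [hh.surjective.range_eq]; exact isClosed_univ)
  have hci : IsClosedImmersion f := by
    refine isClosedImmersion_iff_isAffineHom.2 ⟨inferInstance, fun U hU => ?_⟩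
    let I : Ideal Γ(S, U) := i.ker.ideal ⟨U, hU⟩
    have hI : I ≤ nilradical Γ(S, U) := by
      intro a ha
      rw [mem_nilradical]
      have hb : S.basicOpen a = ⊥ := by
        ext x
        refine ⟨fun hx => ?_, fun hx => hx.elim⟩
        obtain ⟨y, rfl⟩ := i.surjective x
        have hy : y ∈ S'.basicOpen (i.app U a) := by
          rw [← Scheme.preimage_basicOpen]; exact hx
        rw [show i.app U a = 0 from by simpa [I, Scheme.Hom.ker_apply] using ha,
          Scheme.basicOpen_zero] at hy
        exact hy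
      exact (Scheme.isNilpotent_iff_basicOpen_eq_bot_of_isCompact hU.isCompact a).2 hb
    have : IsNoetherianRing Γ(S, U) := IsLocallyNoetherian.component_noetherian ⟨U, hU⟩
    have hnil : IsNilpotent I :=
      (IsNoetherianRing.isNilpotent_nilradical Γ(S, U)).elim fun N hN =>
        ⟨N, le_bot_iff.1 ((Ideal.pow_right_mono hI N).trans hN.le)⟩
    refine surjective_of_nilpotent (f.app U).hom I hnil fun b => ?_
    let V : X.affineOpens := ⟨f ⁻¹ᵁ U, hU.preimage f⟩
    have hker : (pullback.fst f i).ker.ideal V ≤ I.map (f.app U).hom := by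
      rw [AdicLinTop.Thickenings.ker_eq_comap_of_isPullback (IsPullback.of_hasPullback f i),
        Divisors.ideal_comap_affine _ f ⟨U, hU⟩ V le_rfl, Scheme.Hom.app_eq_appLE]
    have hbij : Function.Bijective ((pullback.snd f i).app (i ⁻¹ᵁ U)) :=
      ConcreteCategory.bijective_of_isIso _
    obtain ⟨y, hy⟩ := hbij.2 ((pullback f i).presheaf.map (eqToHom (show
      (pullback.snd f i) ⁻¹ᵁ i ⁻¹ᵁ U = (pullback.fst f i) ⁻¹ᵁ f ⁻¹ᵁ U by
        rw [← Scheme.Hom.comp_preimage, ← Scheme.Hom.comp_preimage, hcomp])).op
      ((pullback.fst f i).app (f ⁻¹ᵁ U) b))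
    obtain ⟨a, rfl⟩ := i.app_surjective U hU y
    refine ⟨a, hker ?_⟩
    rw [Scheme.Hom.ker_apply, RingHom.mem_ker, map_sub, sub_eq_zero]
    have h1 := congr($(Scheme.Hom.congr_app hcomp U) a)
    simp only [Scheme.Hom.comp_app, CommRingCat.hom_comp, RingHom.comp_apply] at h1
    refine h1.trans ?_
    change ((pullback f i).presheaf.map _) ((pullback.snd f i).app _ (i.app U a)) = _
    rw [hy, ← CommRingCat.comp_apply, ← Functor.map_comp]
    refine Eq.trans ?_ (congr($((pullback f i).presheaf.map_id _) _))
    rfl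
  have : LocallyOfFinitePresentation f := inferInstance
  have : IsOpenImmersion f := IsOpenImmersion.of_flat_of_mono f
  have : Surjective f := ⟨hh.surjective⟩
  exact (isIso_iff_isOpenImmersion_and_surjective f).2 ⟨inferInstance, inferInstance⟩

end Groth.CohDev.FlatPullEquiv
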